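import Groth.Agent.ShSp.K437.TypePull

/-!
# Sheaves of sets: isomorphism criterion on stalks, inducing maps
-/

set_option autoImplicit false
universe u
open CategoryTheory TopologicalSpace Opposite CategoryTheory.Limits

namespace K437.ShSets

/-- A morphism of sheaves of sets which is an isomorphism on stalks is an isomorphism. -/
theorem isIso_of_stalks {X : TopCat.{u}} {F G : X.Sheaf (Type u)} (φ : F ⟶ G)
    (h : ∀ x : X, IsIso ((stalkF x).map φ)) : IsIso φ :=
  (TopCat.Presheaf.isIso_iff_stalkFunctor_map_iso (C := Type u) (X := X)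
    (F := F) (G := G) φ).2 h

theorem isIso_stalkPush_of_isInducing {X Y : TopCat.{u}} (f : X ⟶ Y)
    (hf : Topology.IsInducing f) (x : X) (G : X.Sheaf (Type u)) : IsIso ((stalkPush f x).app G) :=
  TopCat.Presheaf.stalkPushforward.stalkPushforward_iso_of_isInducing (Type u) hf G.obj x

/-- The map `(f_* G)_{f x} ≅ (f⁻¹ f_* G)_x ⟶ G_x` is the canonical map. -/
@[reassoc]
theorem stalkComp_counit {X Y : TopCat.{u}} (f : X ⟶ Y) (x : X) (G : X.Sheaf (Type u)) :
    (stalkComp f x).app ((push f).obj G) ≫ (stalkF x).map ((adj f).counit.app G) =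
      (stalkPush f x).app G := by
  have h1 := (stalkPush f x).naturality ((adj f).counit.app G)
  have h2 : (stalkF (f x)).map ((adj f).unit.app ((push f).obj G)) ≫
      (stalkF (f x)).map ((push f).map ((adj f).counit.app G)) = 𝟙 _ := by
    rw [← Functor.map_comp, (adj f).right_triangle_components G]
    exact (stalkF (f x)).map_id _
  change ((stalkF (f x)).map ((adj f).unit.app ((push f).obj G)) ≫
    (stalkPush f x).app ((pull f).obj ((push f).obj G))) ≫
      (stalkF x).map ((adj f).counit.app G) = _
  rw [Category.assoc]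
  have h3 := congrArg (fun t => (stalkF (f x)).map
    ((adj f).unit.app ((push f).obj G)) ≫ t) h1
  refine h3.symm.trans ?_
  have h4 := congrArg (fun t => t ≫ (stalkPush f x).app G) h2
  exact (Category.assoc _ _ _).symm.trans (h4.trans (Category.id_comp _))

/-- For an inducing map the counit `f⁻¹ f_* G ⟶ G` is an isomorphism. -/
theorem isIso_counit_of_isInducing {X Y : TopCat.{u}} (f : X ⟶ Y)
    (hf : Topology.IsInducing f) (G : X.Sheaf (Type u)) : IsIso ((adj f).counit.app G) := by
  refine isIso_of_stalks _ (fun x => ?_)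
  have h := stalkComp_counit f x G
  have h1 := isIso_stalkPush_of_isInducing f hf x G
  have h2 : IsIso ((stalkComp f x).app ((push f).obj G) ≫
    (stalkF x).map ((adj f).counit.app G)) := h ▸ h1
  exact IsIso.of_isIso_comp_left ((stalkComp f x).app ((push f).obj G)) _

/-- For an inducing map the unit is an isomorphism on stalks at points of the image. -/
theorem isIso_stalk_unit_of_isInducing {X Y : TopCat.{u}} (f : X ⟶ Y)
    (hf : Topology.IsInducing f) (F : Y.Sheaf (Type u)) (x : X) :
    IsIso ((stalkF (f x)).map ((adj f).unit.app F)) := by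
  have h1 := isIso_stalkPush_of_isInducing f hf x ((pull f).obj F)
  have h2 : IsIso ((stalkF (f x)).map ((adj f).unit.app F) ≫
    (stalkPush f x).app ((pull f).obj F)) := isIso_stalkComp_app f x F
  exact IsIso.of_isIso_comp_right _ ((stalkPush f x).app ((pull f).obj F))


/-- Sections of a sheaf of sets over the empty open set. -/
theorem nonempty_unique_of_eq_bot {X : TopCat.{u}} (F : X.Sheaf (Type u)) (U : Opens X)
    (hU : U = ⊥) : Nonempty (Unique (F.obj.obj (op U))) :=
  ⟨Types.isTerminalEquivUnique _ (F.isTerminalOfEqEmpty hU)⟩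

/-- The stalk of `f_* G` at a point outside of the closure of the image of `f` is a point. -/
theorem nonempty_unique_stalk_push {X Y : TopCat.{u}} (f : X ⟶ Y) (G : X.Sheaf (Type u)) (y : Y)
    (hy : y ∉ closure (Set.range f)) : Nonempty (Unique ((stalkF y).obj ((push f).obj G))) := by
  let W : Opens Y := ⟨(closure (Set.range f))ᶜ, isClosed_closure.isOpen_compl⟩
  have hW : y ∈ W := hy
  have hbot : ∀ V : Opens Y, V ≤ W → (Opens.map f).obj V = ⊥ := by
    intro V hV
    rw [eq_bot_iff]
    intro x hx
    exact (hV hx (subset_closure ⟨x, rfl⟩)).elim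
  have huniq : ∀ V : Opens Y, V ≤ W →
      Nonempty (Unique (((push f).obj G).obj.obj (op V))) := fun V hV =>
    nonempty_unique_of_eq_bot G _ (hbot V hV)
  obtain ⟨hWu⟩ := huniq W le_rfl
  have hne : Nonempty ((stalkF y).obj ((push f).obj G)) :=
    ⟨germ ((push f).obj G) W y hW hWu.default⟩
  have hss : Subsingleton ((stalkF y).obj ((push f).obj G)) := by
    refine ⟨fun s t => ?_⟩
    obtain ⟨U, hUW, hyU, s', rfl⟩ := TopCat.Presheaf.exists_le_germ_eq
      (C := Type u) (X := Y) ((push f).obj G).obj s hW
    obtain ⟨V, hVW, hyV, t', rfl⟩ := TopCat.Presheaf.exists_le_germ_eq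
      (C := Type u) (X := Y) ((push f).obj G).obj t hW
    obtain ⟨h⟩ := huniq (U ⊓ V) (inf_le_left.trans hUW)
    exact TopCat.Presheaf.germ_ext (C := Type u) (X := Y) ((push f).obj G).obj (U ⊓ V)
      ⟨hyU, hyV⟩ (homOfLE inf_le_left) (homOfLE inf_le_right) (Subsingleton.elim _ _)
  exact ⟨@Unique.mk' _ ⟨hne.some⟩ hss⟩

/-- A map between one-point sets is an isomorphism. -/
theorem isIso_of_unique {A B : Type u} (f : A ⟶ B) (hA : Nonempty (Unique A))
    (hB : Nonempty (Unique B)) : IsIso f := by
  obtain ⟨hA⟩ := hA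
  obtain ⟨hB⟩ := hB
  rw [isIso_iff_bijective]
  exact ⟨fun a b _ => Subsingleton.elim a b, fun b => ⟨hA.default, Subsingleton.elim _ _⟩⟩

/-- For a closed embedding the unit `F ⟶ f_* f⁻¹ F` is an isomorphism if the stalks of `F`
outside of the image are points. -/
theorem isIso_unit_of_isClosedEmbedding {X Y : TopCat.{u}} (f : X ⟶ Y)
    (hf : Topology.IsClosedEmbedding f) (F : Y.Sheaf (Type u))
    (hF : ∀ y : Y, y ∉ Set.range f → Nonempty (Unique ((stalkF y).obj F))) :
    IsIso ((adj f).unit.app F) := by
  refine isIso_of_stalks _ (fun y => ?_)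
  by_cases hy : y ∈ Set.range f
  · obtain ⟨x, rfl⟩ := hy
    exact isIso_stalk_unit_of_isInducing f hf.isInducing F x
  · exact isIso_of_unique _ (hF y hy)
      (nonempty_unique_stalk_push f _ y (by rwa [hf.isClosed_range.closure_eq]))

end K437.ShSets
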