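import Groth.Agent.ShSp.K437.Basis2

/-!
# Sheaves of sets on a basis: extension to all open sets, morphisms
-/

set_option autoImplicit false
universe u
open TopologicalSpace CategoryTheory Opposite

namespace K437.ShSets

/-! ### Morphisms given on a basis -/

section Hom

variable {X : TopCat.{u}} {B : Set (Opens X)} (hB : Opens.IsBasis B)

include hB in
/-- Two morphisms of sheaves which agree on a basis are equal. -/
theorem hom_eq_of_basis (G F : X.Sheaf (Type u)) (α β : G ⟶ F)
    (h : ∀ (U : B) (s : G.presheaf.obj (op (U : Opens X))),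
      α.1.app (op (U : Opens X)) s = β.1.app (op (U : Opens X)) s) : α = β := by
  have hB' : Opens.IsBasis (Set.range (fun U : B => (U : Opens X))) := by
    rwa [Subtype.range_coe]
  apply Sheaf.hom_ext
  refine TopCat.Sheaf.hom_ext G.presheaf F hB' fun U => ?_
  ext s
  exact h U s

include hB in
/-- A family of maps on the members of a basis extends uniquely to a morphism of sheaves. -/
theorem existsUnique_hom_of_basis (G F : X.Sheaf (Type u))
    (φ : ∀ U : B, G.presheaf.obj (op (U : Opens X)) → F.presheaf.obj (op (U : Opens X)))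
    (hφ : ∀ (U V : B) (h : (V : Opens X) ≤ U) (s : G.presheaf.obj (op (U : Opens X))),
      F.presheaf.map (homOfLE h).op (φ U s) = φ V (G.presheaf.map (homOfLE h).op s)) :
    ∃! ψ : G ⟶ F, ∀ (U : B) (s : G.presheaf.obj (op (U : Opens X))),
      ψ.1.app (op (U : Opens X)) s = φ U s := by
  have hB' : Opens.IsBasis (Set.range (fun U : B => (U : Opens X))) := by
    rwa [Subtype.range_coe]
  let α : (inducedFunctor (fun U : B => (U : Opens X))).op ⋙ G.presheaf ⟶
      (inducedFunctor (fun U : B => (U : Opens X))).op ⋙ F.1 :=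
    { app := fun U => ↾(φ U.unop)
      naturality := fun U V f => by
        ext s
        exact (hφ U.unop V.unop f.unop.hom.le s).symm }
  refine ⟨⟨TopCat.Sheaf.restrictHomEquivHom G.presheaf F hB' α⟩, fun U s => ?_,
    fun ψ hψ => hom_eq_of_basis hB G F _ _ fun U s => ?_⟩
  · have h1 := TopCat.Sheaf.extend_hom_app G.presheaf F hB' α U
    exact ConcreteCategory.congr_hom h1 s
  · have h1 := TopCat.Sheaf.extend_hom_app G.presheaf F hB' α U
    rw [hψ U s]
    exact (ConcreteCategory.congr_hom h1 s).symm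

end Hom

/-! ### Morphisms to a direct image -/

section Push

variable {X Y : TopCat.{u}} (f : X ⟶ Y) (F : X.Sheaf (Type u)) (G : Y.Sheaf (Type u))
    {BX : Set (Opens X)} (hBX : Opens.IsBasis BX) {BY : Set (Opens Y)} (hBY : Opens.IsBasis BY)
    (φ : ∀ (V : BY) (U : BX), (U : Opens X) ≤ (Opens.map f).obj V →
      (G.presheaf.obj (op (V : Opens Y)) → F.presheaf.obj (op (U : Opens X))))
    (hφ : ∀ (V V' : BY) (U U' : BX) (hUV : (U : Opens X) ≤ (Opens.map f).obj V)
      (hU'V' : (U' : Opens X) ≤ (Opens.map f).obj V') (hV : (V' : Opens Y) ≤ V)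
      (hU : (U' : Opens X) ≤ U) (s : G.presheaf.obj (op (V : Opens Y))),
      F.presheaf.map (homOfLE hU).op (φ V U hUV s) =
        φ V' U' hU'V' (G.presheaf.map (homOfLE hV).op s))

include hBX in
/-- Two sections which agree on the smaller members of a basis are equal. -/
lemma eq_of_basis (W : Opens X) (s t : F.presheaf.obj (op W))
    (h : ∀ (U : BX) (hU : (U : Opens X) ≤ W), F.presheaf.map (homOfLE hU).op s =
      F.presheaf.map (homOfLE hU).op t) : s = t := by
  refine TopCat.Sheaf.eq_of_locally_eq' (C := Type u) F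
    (fun U : {U : BX // (U : Opens X) ≤ W} => (U.1 : Opens X)) W (fun U => homOfLE U.2) ?_ s t
    fun U => h U.1 U.2
  intro x hx
  obtain ⟨S, hS, hxS, hSW⟩ := Opens.isBasis_iff_nbhd.1 hBX hx
  exact Opens.mem_iSup.2 ⟨⟨⟨S, hS⟩, hSW⟩, hxS⟩

include hBX hφ in
lemma existsUnique_section (V : BY) (s : G.presheaf.obj (op (V : Opens Y))) :
    ∃! t : F.presheaf.obj (op ((Opens.map f).obj V)),
      ∀ (U : BX) (hUV : (U : Opens X) ≤ (Opens.map f).obj V),
        F.presheaf.map (homOfLE hUV).op t = φ V U hUV s := by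
  have hφ' : ∀ (U U' : BX) (hUV : (U : Opens X) ≤ (Opens.map f).obj V)
      (hU : (U' : Opens X) ≤ U), F.presheaf.map (homOfLE hU).op (φ V U hUV s) =
        φ V U' (hU.trans hUV) s := by
    intro U U' hUV hU
    have h := hφ V V U U' hUV (hU.trans hUV) le_rfl hU s
    have h2 : G.presheaf.map (homOfLE (le_refl (V : Opens Y))).op s = s := by
      exact G.presheaf.map_id_apply _ s
    rwa [h2] at h
  obtain ⟨t, ht, ht'⟩ := TopCat.Sheaf.existsUnique_gluing' (C := Type u) F
    (fun U : {U : BX // (U : Opens X) ≤ (Opens.map f).obj V} => (U.1 : Opens X))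
    ((Opens.map f).obj V) (fun U => homOfLE U.2) (by
      intro x hx
      obtain ⟨S, hS, hxS, hSW⟩ := Opens.isBasis_iff_nbhd.1 hBX hx
      exact Opens.mem_iSup.2 ⟨⟨⟨S, hS⟩, hSW⟩, hxS⟩)
    (fun U => φ V U.1 U.2 s) (by
      intro U U'
      refine eq_of_basis F hBX _ _ _ fun W hW => ?_
      have h1 := hφ' U.1 W U.2 (hW.trans inf_le_left)
      have h2 := hφ' U'.1 W U'.2 (hW.trans inf_le_right)
      refine Eq.trans ?_ (h1.trans (h2.symm.trans ?_))
      · exact (F.presheaf.map_comp_apply _ _ _).symm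
      · exact F.presheaf.map_comp_apply _ _ _)
  exact ⟨t, fun U hUV => ht ⟨U, hUV⟩, fun t' ht'' => ht' t' fun U => ht'' U.1 U.2⟩

include hBX hBY hφ in
theorem existsUnique_hom_push :
    ∃! ψ : G ⟶ (TopCat.Sheaf.pushforward (Type u) f).obj F,
      ∀ (V : BY) (U : BX) (hUV : (U : Opens X) ≤ (Opens.map f).obj V)
        (s : G.presheaf.obj (op (V : Opens Y))),
        F.presheaf.map (homOfLE hUV).op (ψ.1.app (op (V : Opens Y)) s) = φ V U hUV s := by
  choose ψ hψ hψ' using existsUnique_section f F G hBX φ hφ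
  obtain ⟨Ψ, hΨ, hΨ'⟩ := existsUnique_hom_of_basis hBY G
    ((TopCat.Sheaf.pushforward (Type u) f).obj F) ψ (by
      intro V V' h s
      refine hψ' V' (G.presheaf.map (homOfLE h).op s) _ fun U hU => ?_
      have h1 := hφ V V' U U (hU.trans ((Opens.map f).map (homOfLE h)).le) hU h le_rfl s
      rw [← h1, ← hψ V s U (hU.trans ((Opens.map f).map (homOfLE h)).le)]
      refine (F.presheaf.map_comp_apply _ _ _).symm.trans (Eq.trans ?_
        (F.presheaf.map_comp_apply _ _ _))
      rfl)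
  refine ⟨Ψ, fun V U hUV s => ?_, fun Ψ' h => hΨ' Ψ' fun V s => ?_⟩
  · have h1 := hΨ V s
    have h2 : Ψ.1.app (op (V : Opens Y)) s = ψ V s := h1
    rw [h2]
    exact hψ V s U hUV
  · exact hψ' V s _ fun U hUV => h V U hUV s

end Push

/-! ### Extension of a sheaf on a basis -/

section Ext

variable {X : Type u} [TopologicalSpace X] {B : Set (Opens X)} (hB : Opens.IsBasis B)
  (F : ShB.Pre B)

/-- Compatible families of sections over the members of the basis contained in `V`. -/
def extObj (V : Opens X) : Type u :=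
  {s : ∀ T : {T : B // (T : Opens X) ≤ V}, F.obj T.1 //
    ∀ (T T' : {T : B // (T : Opens X) ≤ V}) (h : (T'.1 : Opens X) ≤ (T.1 : Opens X)),
      F.res h (s T) = s T'}

/-- The presheaf extending `F`. -/
def extPre : TopCat.Presheaf (Type u) (TopCat.of X) where
  obj V := extObj F V.unop
  map {V W} f := ↾fun s => (⟨fun T => s.1 ⟨T.1, T.2.trans f.unop.le⟩, fun T T' h =>
    s.2 ⟨T.1, T.2.trans f.unop.le⟩ ⟨T'.1, T'.2.trans f.unop.le⟩ h⟩ : extObj F W.unop)
  map_id V := by
    ext s
    rfl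
  map_comp f g := by
    ext s
    rfl

lemma extPre_map_val {V W : Opens X} (h : W ≤ V) (s : extObj F V) (T : {T : B // (T : Opens X) ≤ W}) :
    ((extPre F).map (homOfLE h).op s : extObj F W).1 T = s.1 ⟨T.1, T.2.trans h⟩ := rfl

include hB in
theorem extPre_isSheaf (hF : ShB.IsSheaf F) : (extPre F).IsSheaf := by
  apply TopCat.Presheaf.isSheaf_of_isSheafUniqueGluing_types
  intro ι U sf hsf
  have hsep := sep_of_isSheaf hB hF
  have hcomp : ∀ (i j : ι) (W : B) (h1 : (W : Opens X) ≤ U i) (h2 : (W : Opens X) ≤ U j),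
      (sf i).1 ⟨W, h1⟩ = (sf j).1 ⟨W, h2⟩ := by
    intro i j W h1 h2
    exact congrArg (fun t : extObj F (U i ⊓ U j) => t.1 ⟨W, le_inf h1 h2⟩) (hsf i j)
  have hglue : ∀ T : {T : B // (T : Opens X) ≤ iSup U}, ∃ t : F.obj T.1,
      ∀ (i : ι) (W : B) (h1 : (W : Opens X) ≤ (T.1 : Opens X)) (h2 : (W : Opens X) ≤ U i),
        F.res h1 t = (sf i).1 ⟨W, h2⟩ := by
    intro T
    obtain ⟨t, ht⟩ := exists_glue hB hF T.1 _
      (fun p : {p : B × ι // (p.1 : Opens X) ≤ T.1 ∧ (p.1 : Opens X) ≤ U p.2} => p.1.1)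
      (fun p => p.2.1) (cover_basis hB U T.2)
      (fun p => (sf p.1.2).1 ⟨p.1.1, p.2.2⟩) (by
        intro p q W h1 h2
        rw [(sf p.1.2).2 ⟨p.1.1, p.2.2⟩ ⟨W, h1.trans p.2.2⟩ h1,
          (sf q.1.2).2 ⟨q.1.1, q.2.2⟩ ⟨W, h2.trans q.2.2⟩ h2]
        exact hcomp _ _ _ _ _)
    exact ⟨t, fun i W h1 h2 => ht ⟨(W, i), h1, h2⟩⟩
  choose t ht using hglue
  have huniq : ∀ (T : {T : B // (T : Opens X) ≤ iSup U}) (t' : F.obj T.1),
      (∀ (i : ι) (W : B) (h1 : (W : Opens X) ≤ (T.1 : Opens X)) (h2 : (W : Opens X) ≤ U i),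
        F.res h1 t' = (sf i).1 ⟨W, h2⟩) → t' = t T := by
    intro T t' ht'
    refine hsep T.1 _
      (fun p : {p : B × ι // (p.1 : Opens X) ≤ T.1 ∧ (p.1 : Opens X) ≤ U p.2} => p.1.1)
      (fun p => p.2.1) (cover_basis hB U T.2) _ _ fun p => ?_
    rw [ht T p.1.2 p.1.1 p.2.1 p.2.2, ht' p.1.2 p.1.1 p.2.1 p.2.2]
  refine ⟨⟨t, fun T T' h => ?_⟩, fun i => ?_, fun t' ht' => ?_⟩
  · refine huniq T' _ fun i W h1 h2 => ?_
    rw [F.res_comp]
    exact ht T i W _ h2
  · apply Subtype.ext
    funext T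
    have h1 := ht ⟨T.1, T.2.trans (le_iSup U i)⟩ i T.1 le_rfl T.2
    rw [F.res_id] at h1
    exact h1
  · apply Subtype.ext
    funext T
    refine huniq T _ fun i W h1 h2 => ?_
    have h3 : F.res h1 (t'.1 T) = t'.1 ⟨W, h1.trans T.2⟩ := t'.2 T ⟨W, h1.trans T.2⟩ h1
    refine h3.trans ?_
    exact congrArg (fun r : extObj F (U i) => r.1 ⟨W, h2⟩) (ht' i)

/-- The restriction of the extension. -/
def extIso : ShB.Iso (ShB.restrict B (extPre F)) F where
  hom :=
    { app := fun U s => s.1 ⟨U, le_rfl⟩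
      natural := fun {U V} h s => s.2 ⟨U, le_rfl⟩ ⟨V, h⟩ h }
  inv :=
    { app := fun U s => ⟨fun T => F.res T.2 s, fun T T' h => F.res_comp _ _ _⟩
      natural := fun {U V} h s => by
        apply Subtype.ext
        funext T
        exact (F.res_comp h T.2 s).symm }
  hom_inv U s := by
    apply Subtype.ext
    funext T
    exact s.2 ⟨U, le_rfl⟩ T T.2
  inv_hom U t := F.res_id U t

include hB in
theorem ext_unique (G G' : TopCat.Sheaf (Type u) (TopCat.of X))
    (e : ShB.Iso (ShB.restrict B G.presheaf) F) (e' : ShB.Iso (ShB.restrict B G'.presheaf) F) :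
    ∃! φ : G ⟶ G', IsIso φ ∧ ∀ (U : B) (s : G.presheaf.obj (op (U : Opens X))),
      e'.hom.app U (φ.1.app (op (U : Opens X)) s) = e.hom.app U s := by
  have hiff : ∀ (U : B) (s : G.presheaf.obj (op (U : Opens X)))
      (t : G'.presheaf.obj (op (U : Opens X))),
      e'.hom.app U t = e.hom.app U s ↔ t = e'.inv.app U (e.hom.app U s) := by
    intro U s t
    constructor
    · intro h
      rw [← h]
      exact (e'.hom_inv U t).symm
    · rintro rfl
      exact e'.inv_hom U _
  obtain ⟨ψ, hψ, hψ'⟩ := existsUnique_hom_of_basis (X := TopCat.of X) hB G G'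
    (fun U s => e'.inv.app U (e.hom.app U s)) (by
      intro U V h s
      have h1 := e'.inv.natural h (e.hom.app U s)
      have h2 := e.hom.natural h s
      rw [h2] at h1
      exact h1)
  have hB' : Opens.IsBasis (Set.range (fun U : B => (U : Opens X))) := by
    rwa [Subtype.range_coe]
  refine ⟨ψ, ⟨?_, fun U s => (hiff U s _).2 (hψ U s)⟩, fun φ hφ => hψ' φ fun U s =>
    (hiff U s _).1 (hφ.2 U s)⟩
  refine TopCat.Sheaf.isIso_iff_isIso_basis (X := TopCat.of X) hB' fun U => ?_
  rw [isIso_iff_bijective]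
  constructor
  · intro s t hst
    rw [hψ, hψ] at hst
    have h1 := congrArg (e'.hom.app U) hst
    have h2 : e.hom.app U s = e.hom.app U t := by
      rw [e'.inv_hom, e'.inv_hom] at h1
      exact h1
    have h3 := congrArg (e.inv.app U) h2
    exact (e.hom_inv U s).symm.trans (h3.trans (e.hom_inv U t))
  · intro t
    refine ⟨e.inv.app U (e'.hom.app U t), ?_⟩
    refine (hψ U _).trans ?_
    rw [e.inv_hom]
    exact e'.hom_inv U t

end Ext

end K437.ShSets
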