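import Mathlib.Topology.Sheaves.SheafCondition.UniqueGluing
import Mathlib.Topology.Sheaves.SheafCondition.Sites
import Mathlib.Topology.Sheaves.Stalks
import Mathlib.Topology.Sheaves.Functors
import Mathlib.CategoryTheory.Adjunction.FullyFaithful
import Mathlib.CategoryTheory.EssentialImage
import Mathlib.CategoryTheory.Yoneda

/-!
# Extension by the empty set of sheaves of sets
-/

set_option autoImplicit false
universe u
open CategoryTheory TopologicalSpace Opposite CategoryTheory.Limits

namespace K437.ShSets

variable {X : TopCat.{u}} (U : Opens X)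

/-- Restriction of sheaves of sets to an open subspace. -/
abbrev res : X.Sheaf (Type u) ⥤ (TopCat.of U).Sheaf (Type u) := U.sheafRestrict (C := Type u)

/-- The image functor on open sets. -/
abbrev im : Opens (TopCat.of U) ⥤ Opens X := U.isOpenEmbedding.isOpenMap.functor

/-- All composites agree. -/
lemma map_map_eq {Y : TopCat.{u}} (P : Y.Presheaf (Type u)) {A B B' C : (Opens Y)ᵒᵖ} (f : A ⟶ B)
    (g : B ⟶ C) (f' : A ⟶ B') (g' : B' ⟶ C) (s : P.obj A) :
    P.map g (P.map f s) = P.map g' (P.map f' s) := by
  rw [← Functor.map_comp_apply, ← Functor.map_comp_apply]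
  rfl

/-- The sections of `G` over the open sets contained in `U`. -/
def cutPre (G : X.Sheaf (Type u)) : X.Presheaf (Type u) where
  obj V := {_s : G.obj.obj V // V.unop ≤ U}
  map f := ↾fun s => ⟨G.obj.map f s.1, f.unop.le.trans s.2⟩
  map_id V := by
    ext s
    change G.obj.map (𝟙 V) s.1 = s.1
    simp
  map_comp f g := by
    ext s
    change G.obj.map (f ≫ g) s.1 = G.obj.map g (G.obj.map f s.1)
    simp

theorem cutPre_isSheaf (G : X.Sheaf (Type u)) : (cutPre U G).IsSheaf := by
  apply TopCat.Presheaf.isSheaf_of_isSheafUniqueGluing_types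
  intro ι V sf hsf
  have h1 : TopCat.Presheaf.IsCompatible G.obj V (fun i => (sf i).1) := fun i j =>
    congrArg Subtype.val (hsf i j)
  obtain ⟨s, hs, hs'⟩ := TopCat.Sheaf.existsUnique_gluing (C := Type u) G V (fun i => (sf i).1) h1
  refine ⟨⟨s, iSup_le fun i => (sf i).2⟩, fun i => Subtype.ext (hs i), fun t ht => ?_⟩
  exact Subtype.ext (hs' t.1 fun i => congrArg Subtype.val (ht i))

/-- The sheaf `V ↦ G(V)` for `V ≤ U`, `V ↦ ∅` otherwise. -/
def cut (G : X.Sheaf (Type u)) : X.Sheaf (Type u) := ⟨cutPre U G, cutPre_isSheaf U G⟩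

/-- The inclusion of the cut sheaf. -/
def cutHom (G : X.Sheaf (Type u)) : cut U G ⟶ G :=
  ⟨{ app := fun V => ↾fun s => s.1
     naturality := fun V W f => by
      ext s
      rfl }⟩

lemma im_le (W : Opens (TopCat.of U)) : (im U).obj W ≤ U := by
  rintro _ ⟨x, -, rfl⟩
  exact x.2

instance isIso_res_cutHom (G : X.Sheaf (Type u)) : IsIso ((res U).map (cutHom U G)) := by
  have : IsIso ((sheafToPresheaf _ _).map ((res U).map (cutHom U G))) := by
    rw [NatTrans.isIso_iff_isIso_app]
    intro W
    rw [isIso_iff_bijective]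
    constructor
    · intro s t h
      exact Subtype.ext h
    · intro s
      exact ⟨⟨s, im_le U W.unop⟩, rfl⟩
  exact (fullyFaithfulSheafToPresheaf _ _).isIso_of_isIso_map _

/-- Every sheaf on `U` is a restriction. -/
theorem exists_res (F : (TopCat.of U).Sheaf (Type u)) :
    ∃ G : X.Sheaf (Type u), Nonempty ((res U).obj G ≅ F) := by
  refine ⟨(TopCat.Sheaf.pushforward (Type u) U.inclusion').obj F, ⟨?_⟩⟩
  refine (fullyFaithfulSheafToPresheaf _ _).preimageIso ?_
  have h : ∀ W : Opens (TopCat.of U), (Opens.map U.inclusion').obj ((im U).obj W) = W := by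
    intro W
    ext x
    constructor
    · rintro ⟨y, hy, hyx⟩
      have : y = x := Subtype.ext hyx
      rwa [← this]
    · intro hx
      exact ⟨x, hx, rfl⟩
  refine NatIso.ofComponents (fun W => F.obj.mapIso (eqToIso (by
    change op ((Opens.map U.inclusion').obj ((im U).obj W.unop)) = W
    rw [h]
    rfl))) ?_
  intro V W f
  change F.obj.map _ ≫ F.obj.map _ = F.obj.map _ ≫ F.obj.map _
  rw [← Functor.map_comp, ← Functor.map_comp]
  rfl

/-- Emptiness of the stalks outside of `U`. -/
theorem isEmpty_stalk_iff (G : X.Sheaf (Type u)) :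
    (∀ x : X, x ∉ U → IsEmpty (G.presheaf.stalk x)) ↔
      ∀ V : Opens X, Nonempty (G.obj.obj (op V)) → V ≤ U := by
  constructor
  · rintro h V ⟨s⟩ x hx
    by_contra hxU
    exact (h x hxU).false (TopCat.Presheaf.germ (C := Type u) G.presheaf V x hx s)
  · intro h x hx
    refine ⟨fun s => ?_⟩
    obtain ⟨V, hV, s, rfl⟩ := TopCat.Presheaf.exists_germ_eq (C := Type u) G.presheaf s
    exact hx (h V ⟨s⟩ hV)

lemma im_map (V : Opens X) (hV : V ≤ U) : (im U).obj ((Opens.map U.inclusion').obj V) = V := by
  ext x
  constructor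
  · rintro ⟨y, hy, rfl⟩
    exact hy
  · intro hx
    exact ⟨⟨x, hV hx⟩, hx, rfl⟩

/-- Restriction is bijective on morphisms out of sheaves which are empty outside of `U`. -/
theorem res_map_bijective (G H : X.Sheaf (Type u))
    (hG : ∀ V : Opens X, Nonempty (G.obj.obj (op V)) → V ≤ U) :
    Function.Bijective (fun f : G ⟶ H => (res U).map f) := by
  constructor
  · intro f g hfg
    apply Sheaf.hom_ext
    ext V s
    have hV := hG V.unop ⟨s⟩
    have e : op ((im U).obj ((Opens.map U.inclusion').obj V.unop)) = V := by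
      rw [im_map U _ hV]
    have h1 : f.hom.app (op ((im U).obj ((Opens.map U.inclusion').obj V.unop))) =
        g.hom.app (op ((im U).obj ((Opens.map U.inclusion').obj V.unop))) :=
      congrArg (fun t => t.hom.app (op ((Opens.map U.inclusion').obj V.unop))) hfg
    rw [e] at h1
    rw [h1]
  · intro φ
    have e : ∀ V : (Opens X)ᵒᵖ, G.obj.obj V →
        op ((im U).obj ((Opens.map U.inclusion').obj V.unop)) = V := fun V s => by
      rw [im_map U _ (hG V.unop ⟨s⟩)]
    have hφ : ∀ {W W' : Opens (TopCat.of U)} (i : W' ⟶ W) (s : G.obj.obj (op ((im U).obj W))),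
        φ.hom.app (op W') (G.obj.map ((im U).map i).op s) =
          H.obj.map ((im U).map i).op (φ.hom.app (op W) s) := fun {W W'} i s =>
      ConcreteCategory.congr_hom (φ.hom.naturality i.op) s
    refine ⟨⟨{ app := fun V => ↾fun s => H.obj.map (eqToHom (e V s))
                (φ.hom.app (op ((Opens.map U.inclusion').obj V.unop))
                  (G.obj.map (eqToHom (e V s).symm) s))
               naturality := ?_ }⟩, ?_⟩
    · intro V W f
      ext s
      change H.obj.map (eqToHom (e W (G.obj.map f s)))
        (φ.hom.app (op ((Opens.map U.inclusion').obj W.unop))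
          (G.obj.map (eqToHom (e W (G.obj.map f s)).symm) (G.obj.map f s))) =
        H.obj.map f (H.obj.map (eqToHom (e V s))
          (φ.hom.app (op ((Opens.map U.inclusion').obj V.unop))
            (G.obj.map (eqToHom (e V s).symm) s)))
      have h1 := hφ ((Opens.map U.inclusion').map f.unop) (G.obj.map (eqToHom (e V s).symm) s)
      have h2 : G.obj.map (eqToHom (e W (G.obj.map f s)).symm) (G.obj.map f s) =
          G.obj.map ((im U).map ((Opens.map U.inclusion').map f.unop)).op
            (G.obj.map (eqToHom (e V s).symm) s) := map_map_eq _ _ _ _ _ _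
      rw [h2, h1]
      exact map_map_eq _ _ _ _ _ _
    · apply Sheaf.hom_ext
      ext W s
      have hW : (Opens.map U.inclusion').obj ((im U).obj W.unop) = W.unop := by
        ext x
        constructor
        · rintro ⟨y, hy, hyx⟩
          have : y = x := Subtype.ext hyx
          rwa [← this]
        · intro hx
          exact ⟨x, hx, rfl⟩
      change H.obj.map (eqToHom (e (op ((im U).obj W.unop)) s))
        (φ.hom.app (op ((Opens.map U.inclusion').obj ((im U).obj W.unop)))
          (G.obj.map (eqToHom (e (op ((im U).obj W.unop)) s).symm) s)) = φ.hom.app W s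
      have h1 := hφ (eqToHom hW) s
      have h2 : G.obj.map (eqToHom (e (op ((im U).obj W.unop)) s).symm) s =
        G.obj.map ((im U).map (eqToHom hW)).op s := rfl
      rw [h2, h1]
      refine (map_map_eq _ _ _ (𝟙 _) (𝟙 _) _).trans ?_
      simp

/-- The main facts about extension by the empty set. -/
theorem extEmpty (L : (TopCat.of U).Sheaf (Type u) ⥤ X.Sheaf (Type u)) (adj : L ⊣ res U) :
    L.Full ∧ L.Faithful ∧
    ∀ G : X.Sheaf (Type u), L.essImage G ↔ ∀ x : X, x ∉ U → IsEmpty (G.presheaf.stalk x) := by
  -- the counit is an isomorphism at sheaves which are empty outside of `U`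
  have hcounit : ∀ G : X.Sheaf (Type u), (∀ V : Opens X, Nonempty (G.obj.obj (op V)) → V ≤ U) →
      IsIso (adj.counit.app G) := by
    intro G hG
    refine isIso_of_coyoneda_map_bijective _ fun H => ?_
    have h1 := res_map_bijective U G H hG
    have h2 : (fun f : G ⟶ H => adj.counit.app G ≫ f) =
        (adj.homEquiv ((res U).obj G) H).symm ∘ (fun f : G ⟶ H => (res U).map f) := by
      funext f
      simp [Adjunction.homEquiv_counit]
    have h3 : Function.Bijective (fun f : G ⟶ H => adj.counit.app G ≫ f) := by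
      rw [h2]
      exact (adj.homEquiv _ _).symm.bijective.comp h1
    exact h3
  have hcut : ∀ (G : X.Sheaf (Type u)) (V : Opens X),
      Nonempty ((cut U G).obj.obj (op V)) → V ≤ U := fun G V ⟨s⟩ => s.2
  have hunit : ∀ F, IsIso (adj.unit.app F) := by
    intro F
    obtain ⟨G, ⟨e⟩⟩ := exists_res U F
    let e' : (res U).obj (cut U G) ≅ F := asIso ((res U).map (cutHom U G)) ≪≫ e
    have h1 := hcounit (cut U G) (hcut G)
    have h2 := adj.right_triangle_components (cut U G)
    have h3 : IsIso (adj.unit.app ((res U).obj (cut U G))) := by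
      have h4 : IsIso ((res U).map (adj.counit.app (cut U G))) := inferInstance
      have h5 : IsIso (adj.unit.app ((res U).obj (cut U G)) ≫
        (res U).map (adj.counit.app (cut U G))) := by
        rw [h2]
        exact IsIso.id _
      exact IsIso.of_isIso_comp_right _ ((res U).map (adj.counit.app (cut U G)))
    exact (NatTrans.isIso_app_iff_of_iso adj.unit e').1 h3
  have hunit' : IsIso adj.unit := NatIso.isIso_of_isIso_app _
  refine ⟨adj.fullyFaithfulLOfIsIsoUnit.full, adj.fullyFaithfulLOfIsIsoUnit.faithful,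
    fun G => ?_⟩
  rw [isEmpty_stalk_iff]
  constructor
  · rintro ⟨F, ⟨e⟩⟩ V ⟨s⟩
    obtain ⟨G', ⟨e'⟩⟩ := exists_res U F
    let g : F ⟶ (res U).obj (cut U G') := e'.inv ≫ inv ((res U).map (cutHom U G'))
    let h : G ⟶ cut U G' := e.inv ≫ (adj.homEquiv _ _).symm g
    exact hcut G' V ⟨h.hom.app (op V) s⟩
  · intro hG
    have := hcounit G hG
    exact ⟨(res U).obj G, ⟨asIso (adj.counit.app G)⟩⟩

end K437.ShSets
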