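import Groth.Agent.ShSp.K437.TypePull
import Mathlib.CategoryTheory.Limits.Types.Filtered
import Mathlib.Topology.Sheaves.SheafCondition.UniqueGluing

/-!
# Sections of directed colimits of sheaves of sets
-/

set_option autoImplicit false
set_option linter.unusedSectionVars false
universe u
open CategoryTheory TopologicalSpace Opposite CategoryTheory.Limits

namespace K437.ShSets

instance isLeftAdjoint_stalkF {X : TopCat.{u}} (x : X) : (stalkF x).IsLeftAdjoint := by
  classical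
  exact (stalkSkyscraperSheafAdjunction (C := Type u) x).isLeftAdjoint

variable {X : TopCat.{u}} {J : Type u} [Preorder J] [Nonempty J] [IsDirected J (· ≤ ·)]
    (F : J ⥤ X.Sheaf (Type u)) (c : Cocone F) (hc : IsColimit c)

/-- The transition maps on sections. -/
abbrev tr {i j : J} (h : i ⟶ j) (V : Opens X) :
    (F.obj i).1.obj (op V) ⟶ (F.obj j).1.obj (op V) := (F.map h).1.app (op V)

/-- The maps to the colimit on sections. -/
abbrev inc (i : J) (V : Opens X) : (F.obj i).1.obj (op V) ⟶ c.pt.1.obj (op V) :=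
  (c.ι.app i).1.app (op V)

/-- Restriction of sections. -/
abbrev rs (G : X.Sheaf (Type u)) {V W : Opens X} (h : W ≤ V) (s : G.1.obj (op V)) :
    G.1.obj (op W) := G.1.map (homOfLE h).op s

lemma rs_rs (G : X.Sheaf (Type u)) {V W T : Opens X} (h : W ≤ V) (h' : T ≤ W)
    (s : G.1.obj (op V)) : rs G h' (rs G h s) = rs G (h'.trans h) s :=
  (G.1.map_comp_apply _ _ _).symm

lemma rs_tr {i j : J} (h : i ⟶ j) {V W : Opens X} (hW : W ≤ V) (s : (F.obj i).1.obj (op V)) :
    rs (F.obj j) hW (tr F h V s) = tr F h W (rs (F.obj i) hW s) :=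
  (NatTrans.naturality_apply (F.map h).1 (homOfLE hW).op s).symm

lemma rs_inc (i : J) {V W : Opens X} (hW : W ≤ V) (s : (F.obj i).1.obj (op V)) :
    rs c.pt hW (inc F c i V s) = inc F c i W (rs (F.obj i) hW s) :=
  (NatTrans.naturality_apply (c.ι.app i).1 (homOfLE hW).op s).symm

lemma tr_tr {i j k : J} (h : i ⟶ j) (h' : j ⟶ k) (V : Opens X) (s : (F.obj i).1.obj (op V)) :
    tr F h' V (tr F h V s) = tr F (h ≫ h') V s := by
  have h1 : F.map (h ≫ h') = F.map h ≫ F.map h' := F.map_comp h h'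
  rw [tr, tr, tr, h1]
  rfl

lemma inc_tr {i j : J} (h : i ⟶ j) (V : Opens X) (s : (F.obj i).1.obj (op V)) :
    inc F c j V (tr F h V s) = inc F c i V s := by
  have h1 : F.map h ≫ c.ι.app j = c.ι.app i := c.w h
  rw [inc, inc, tr, ← h1]
  rfl

include hc in
/-- Sections with the same image in the colimit agree locally at a later stage. -/
lemma exists_nhd_eq {i : J} {V : Opens X} (s t : (F.obj i).1.obj (op V))
    (h : inc F c i V s = inc F c i V t) {x : X} (hx : x ∈ V) :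
    ∃ (W : Opens X) (hW : W ≤ V) (_ : x ∈ W) (j : J) (f : i ⟶ j),
      tr F f W (rs (F.obj i) hW s) = tr F f W (rs (F.obj i) hW t) := by
  have hc' := isColimitOfPreserves (stalkF x) hc
  have h1 : (stalkF x).map (c.ι.app i) (germ (F.obj i) V x hx s) =
      (stalkF x).map (c.ι.app i) (germ (F.obj i) V x hx t) := by
    have h2 := ConcreteCategory.congr_hom (germ_map (c.ι.app i) V x hx) s
    have h3 := ConcreteCategory.congr_hom (germ_map (c.ι.app i) V x hx) t
    refine h2.trans (Eq.trans ?_ h3.symm)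
    exact congrArg (germ c.pt V x hx) h
  obtain ⟨j, f, hf⟩ := (Types.FilteredColimit.isColimit_eq_iff' hc' _ _).1 h1
  have h2 := ConcreteCategory.congr_hom (germ_map (F.map f) V x hx) s
  have h3 := ConcreteCategory.congr_hom (germ_map (F.map f) V x hx) t
  obtain ⟨W, hxW, i1, i2, hW⟩ := TopCat.Presheaf.germ_eq (C := Type u) (X := X) (F.obj j).1 x hx hx
    _ _ (h2.symm.trans (hf.trans h3))
  refine ⟨W, i1.le, hxW, j, f, ?_⟩
  rw [← rs_tr, ← rs_tr]
  exact hW

include hc in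
/-- Sections of the colimit come locally from some stage. -/
lemma exists_nhd_lift {V : Opens X} (σ : c.pt.1.obj (op V)) {x : X} (hx : x ∈ V) :
    ∃ (W : Opens X) (hW : W ≤ V) (_ : x ∈ W) (i : J) (s : (F.obj i).1.obj (op W)),
      inc F c i W s = rs c.pt hW σ := by
  have hc' := isColimitOfPreserves (stalkF x) hc
  obtain ⟨i, z, hz⟩ := Types.jointly_surjective_of_isColimit hc' (germ c.pt V x hx σ)
  obtain ⟨W, hWV, hxW, s, rfl⟩ := TopCat.Presheaf.exists_le_germ_eq (C := Type u) (X := X)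
    (F.obj i).1 z hx
  have h1 := ConcreteCategory.congr_hom (germ_map (c.ι.app i) W x hxW) s
  obtain ⟨T, hxT, i1, i2, hT⟩ := TopCat.Presheaf.germ_eq (C := Type u) (X := X) c.pt.1 x hxW hx
    _ _ (h1.symm.trans hz)
  refine ⟨T, i2.le, hxT, i, rs (F.obj i) i1.le s, ?_⟩
  rw [← rs_inc]
  exact hT

lemma tr_eq {i j : J} (f g : i ⟶ j) (V : Opens X) (s : (F.obj i).1.obj (op V)) :
    tr F f V s = tr F g V s := by
  rw [Subsingleton.elim f g]

/-- An upper bound for a finite family. -/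
lemma exists_upper {ι : Type*} [Finite ι] (f : ι → J) (i : J) : ∃ j : J, i ≤ j ∧ ∀ k, f k ≤ j := by
  classical
  cases nonempty_fintype ι
  obtain ⟨j, hj⟩ := Finset.exists_le (Finset.univ.image f)
  obtain ⟨k, h1, h2⟩ := exists_ge_ge i j
  exact ⟨k, h1, fun l => (hj _ (Finset.mem_image_of_mem f (Finset.mem_univ l))).trans h2⟩

/-- Equality of sections is local. -/
lemma eq_of_cover (G : X.Sheaf (Type u)) {V : Opens X} {ι : Type*} (W : ι → Opens X)
    (hW : ∀ k, W k ≤ V) (hcov : V ≤ ⨆ k, W k) (s t : G.1.obj (op V))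
    (h : ∀ k, rs G (hW k) s = rs G (hW k) t) : s = t :=
  TopCat.Sheaf.eq_of_locally_eq' (C := Type u) G W V (fun k => homOfLE (hW k)) hcov s t h

include hc in
/-- If `V` is quasi-compact, two sections over `V` with the same image in the colimit agree at a
later stage. -/
lemma eq_of_isCompact {V : Opens X} (hV : IsCompact (V : Set X)) {i : J}
    (s t : (F.obj i).1.obj (op V)) (h : inc F c i V s = inc F c i V t) :
    ∃ (j : J) (f : i ⟶ j), tr F f V s = tr F f V t := by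
  have h1 : ∀ x : V, ∃ (W : Opens X) (hW : W ≤ V) (_ : x.1 ∈ W) (j : J) (f : i ⟶ j),
      tr F f W (rs (F.obj i) hW s) = tr F f W (rs (F.obj i) hW t) := fun x =>
    exists_nhd_eq F c hc s t h x.2
  choose W hWV hxW j f hf using h1
  obtain ⟨T, hT⟩ := hV.elim_finite_subcover (fun x : V => (W x : Set X)) (fun x => (W x).2)
    fun x hx => Set.mem_iUnion.2 ⟨⟨x, hx⟩, hxW ⟨x, hx⟩⟩
  obtain ⟨k, hik, hk⟩ := exists_upper (fun x : T => j x.1) i
  refine ⟨k, homOfLE hik, ?_⟩
  refine eq_of_cover (F.obj k) (fun x : T => W x.1) (fun x => hWV x.1) ?_ _ _ fun x => ?_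
  · intro x hx
    obtain ⟨y, hy, hxy⟩ := Set.mem_iUnion₂.1 (hT hx)
    exact Opens.mem_iSup.2 ⟨⟨y, hy⟩, hxy⟩
  · rw [rs_tr, rs_tr]
    have h2 := congrArg (tr F (homOfLE (hk x)) (W x.1)) (hf x.1)
    rw [tr_tr, tr_tr] at h2
    rw [tr_eq F (homOfLE hik) (f x.1 ≫ homOfLE (hk x))]
    exact h2

include hc in
/-- If the transition maps are injective, so are the maps to the colimit. -/
lemma eq_of_injective (hinj : ∀ (i j : J) (h : i ⟶ j) (V : Opens X),
    Function.Injective ((F.map h).1.app (op V))) {V : Opens X} {i : J}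
    (s t : (F.obj i).1.obj (op V)) (h : inc F c i V s = inc F c i V t) : s = t := by
  have h1 : ∀ x : V, ∃ (W : Opens X) (hW : W ≤ V) (_ : x.1 ∈ W) (j : J) (f : i ⟶ j),
      tr F f W (rs (F.obj i) hW s) = tr F f W (rs (F.obj i) hW t) := fun x =>
    exists_nhd_eq F c hc s t h x.2
  choose W hWV hxW j f hf using h1
  refine eq_of_cover (F.obj i) W hWV (fun x hx => Opens.mem_iSup.2 ⟨⟨x, hx⟩, hxW ⟨x, hx⟩⟩) _ _
    fun x => hinj _ _ (f x) _ (hf x)

include hc in
/-- Gluing at a given stage. -/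
lemma exists_lift_of_glue {V : Opens X} (σ : c.pt.1.obj (op V)) {ι : Type*}
    (W : ι → Opens X) (hWV : ∀ k, W k ≤ V) (hcov : V ≤ ⨆ k, W k) (i : J)
    (s : ∀ k, (F.obj i).1.obj (op (W k))) (hs : ∀ k, inc F c i (W k) (s k) = rs c.pt (hWV k) σ)
    (hcomp : ∀ k l, rs (F.obj i) (inf_le_left : W k ⊓ W l ≤ W k) (s k) =
      rs (F.obj i) (inf_le_right : W k ⊓ W l ≤ W l) (s l)) :
    ∃ t : (F.obj i).1.obj (op V), inc F c i V t = σ := by
  obtain ⟨t, ht, -⟩ := TopCat.Sheaf.existsUnique_gluing' (C := Type u) (F.obj i) W V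
    (fun k => homOfLE (hWV k)) hcov s (fun k l => hcomp k l)
  refine ⟨t, eq_of_cover c.pt W hWV hcov _ _ fun k => ?_⟩
  have ht' : rs (F.obj i) (hWV k) t = s k := ht k
  rw [rs_inc, ht', hs]

include hc in
/-- Lifting sections when the cover is such that compatibility holds at a later stage. -/
lemma exists_lift_of_finite {V : Opens X} (σ : c.pt.1.obj (op V)) {ι : Type*} [Finite ι]
    (W : ι → Opens X) (hWV : ∀ k, W k ≤ V) (hcov : V ≤ ⨆ k, W k) (i : ι → J)
    (s : ∀ k, (F.obj (i k)).1.obj (op (W k)))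
    (hs : ∀ k, inc F c (i k) (W k) (s k) = rs c.pt (hWV k) σ)
    (H : ∀ (k l : ι) (j : J) (a b : (F.obj j).1.obj (op (W k ⊓ W l))),
      inc F c j (W k ⊓ W l) a = inc F c j (W k ⊓ W l) b →
      ∃ (j' : J) (f : j ⟶ j'), tr F f (W k ⊓ W l) a = tr F f (W k ⊓ W l) b) :
    ∃ (j : J) (t : (F.obj j).1.obj (op V)), inc F c j V t = σ := by
  obtain ⟨i₀, -, hi₀⟩ := exists_upper i (Classical.arbitrary J)
  obtain ⟨s₀, hs₀⟩ : ∃ s₀ : ∀ k, (F.obj i₀).1.obj (op (W k)),
      ∀ k, inc F c i₀ (W k) (s₀ k) = rs c.pt (hWV k) σ :=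
    ⟨fun k => tr F (homOfLE (hi₀ k)) (W k) (s k), fun k => by rw [inc_tr, hs]⟩
  have h1 : ∀ p : ι × ι, ∃ (j' : J) (f : i₀ ⟶ j'),
      tr F f (W p.1 ⊓ W p.2) (rs (F.obj i₀) inf_le_left (s₀ p.1)) =
        tr F f (W p.1 ⊓ W p.2) (rs (F.obj i₀) inf_le_right (s₀ p.2)) := fun p => by
    refine H p.1 p.2 i₀ _ _ ?_
    rw [← rs_inc, ← rs_inc, hs₀, hs₀, rs_rs, rs_rs]
  choose j f hf using h1
  obtain ⟨k, hik, hk⟩ := exists_upper j i₀
  refine ⟨k, exists_lift_of_glue F c hc σ W hWV hcov k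
    (fun l => tr F (homOfLE hik) (W l) (s₀ l)) (fun l => by rw [inc_tr, hs₀]) fun l m => ?_⟩
  rw [rs_tr, rs_tr]
  have h2 := congrArg (tr F (homOfLE (hk (l, m))) (W l ⊓ W m)) (hf (l, m))
  rw [tr_tr, tr_tr] at h2
  rw [tr_eq F (homOfLE hik) (f (l, m) ≫ homOfLE (hk (l, m)))]
  exact h2

section Psi

variable (U : Opens X)

/-- The evaluation functor. -/
noncomputable abbrev ev : X.Sheaf (Type u) ⥤ Type u :=
  TopCat.Sheaf.forget (Type u) X ⋙ (evaluation (Opens X)ᵒᵖ (Type u)).obj (op U)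

/-- The comparison map. -/
noncomputable abbrev psi : colimit (F ⋙ ev U) ⟶ (ev U).obj c.pt :=
  colimit.desc (F ⋙ ev U) ((ev U).mapCocone c)

lemma psi_ι (i : J) (s : (F.obj i).1.obj (op U)) :
    psi F c U (colimit.ι (F ⋙ ev U) i s) = inc F c i U s :=
  ConcreteCategory.congr_hom (colimit.ι_desc ((ev U).mapCocone c) i) s

lemma ι_tr {i j : J} (f : i ⟶ j) (s : (F.obj i).1.obj (op U)) :
    colimit.ι (F ⋙ ev U) j (tr F f U s) = colimit.ι (F ⋙ ev U) i s :=
  ConcreteCategory.congr_hom (colimit.w (F ⋙ ev U) f) s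

theorem psi_injective
    (H : ∀ (i : J) (s t : (F.obj i).1.obj (op U)), inc F c i U s = inc F c i U t →
      ∃ (j : J) (f : i ⟶ j), tr F f U s = tr F f U t) : Function.Injective (psi F c U) := by
  intro a b hab
  obtain ⟨i, s, rfl⟩ := Types.jointly_surjective' a
  obtain ⟨j, t, rfl⟩ := Types.jointly_surjective' b
  obtain ⟨k, hik, hjk⟩ := exists_ge_ge i j
  have h1 := ι_tr F U (homOfLE hik) s
  have h2 := ι_tr F U (homOfLE hjk) t
  rw [← h1, ← h2] at hab ⊢
  rw [psi_ι, psi_ι] at hab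
  obtain ⟨l, f, hf⟩ := H k _ _ hab
  rw [← ι_tr F U f, ← ι_tr F U f (tr F (homOfLE hjk) U t), hf]

theorem psi_surjective
    (H : ∀ σ : c.pt.1.obj (op U), ∃ (j : J) (t : (F.obj j).1.obj (op U)), inc F c j U t = σ) :
    Function.Surjective (psi F c U) := by
  intro σ
  obtain ⟨j, t, rfl⟩ := H σ
  exact ⟨colimit.ι (F ⋙ ev U) j t, psi_ι F c U j t⟩

include hc in
theorem main :
    ((∀ (i j : J) (h : i ⟶ j) (V : Opens X), Function.Injective ((F.map h).1.app (op V))) →
      Function.Injective (psi F c U)) ∧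
    (IsCompact (U : Set X) → Function.Injective (psi F c U)) ∧
    (IsCompact (U : Set X) →
      (∀ (i j : J) (h : i ⟶ j) (V : Opens X), Function.Injective ((F.map h).1.app (op V))) →
      Function.Bijective (psi F c U)) ∧
    ((∀ 𝒱 : Set (Opens X), (⨆ V ∈ 𝒱, V) = U →
        ∃ (m : ℕ) (W : Fin m → Opens X), (∀ j, ∃ V ∈ 𝒱, W j ≤ V) ∧ (⨆ j, W j) = U ∧
          ∀ j j', IsCompact ((W j ⊓ W j' : Opens X) : Set X)) →
      Function.Bijective (psi F c U)) := by
  have h1 : (∀ (i j : J) (h : i ⟶ j) (V : Opens X),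
      Function.Injective ((F.map h).1.app (op V))) → Function.Injective (psi F c U) :=
    fun hinj => psi_injective F c U fun i s t hst =>
      ⟨i, 𝟙 i, by rw [eq_of_injective F c hc hinj s t hst]⟩
  have h2 : IsCompact (U : Set X) → Function.Injective (psi F c U) := fun hU =>
    psi_injective F c U fun i s t hst => eq_of_isCompact F c hc hU s t hst
  have hnhd : ∀ σ : c.pt.1.obj (op U), ∀ x : U, ∃ (W : Opens X) (hW : W ≤ U) (_ : x.1 ∈ W)
      (i : J) (s : (F.obj i).1.obj (op W)), inc F c i W s = rs c.pt hW σ := fun σ x =>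
    exists_nhd_lift F c hc σ x.2
  refine ⟨h1, h2, fun hU hinj => ⟨h1 hinj, psi_surjective F c U fun σ => ?_⟩, fun hcov => ?_⟩
  · choose W hWU hxW i s hs using hnhd σ
    obtain ⟨T, hT⟩ := hU.elim_finite_subcover (fun x : U => (W x : Set X)) (fun x => (W x).2)
      fun x hx => Set.mem_iUnion.2 ⟨⟨x, hx⟩, hxW ⟨x, hx⟩⟩
    refine exists_lift_of_finite F c hc σ (fun x : T => W x.1) (fun x => hWU x.1) ?_
      (fun x => i x.1) (fun x => s x.1) (fun x => hs x.1) fun k l j a b hab =>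
        ⟨j, 𝟙 j, by rw [eq_of_injective F c hc hinj a b hab]⟩
    intro x hx
    obtain ⟨y, hy, hxy⟩ := Set.mem_iUnion₂.1 (hT hx)
    exact Opens.mem_iSup.2 ⟨⟨y, hy⟩, hxy⟩
  · have hU : IsCompact (U : Set X) := by
      obtain ⟨m, W, -, hWU, hW⟩ := hcov {U} (by simp)
      rw [← hWU, Opens.coe_iSup]
      refine isCompact_iUnion fun j => ?_
      have := hW j j
      rwa [inf_idem] at this
    refine ⟨h2 hU, psi_surjective F c U fun σ => ?_⟩
    choose W hWU hxW i s hs using hnhd σ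
    obtain ⟨m, T, hT, hTU, hTc⟩ := hcov (Set.range W) (by
      apply le_antisymm
      · refine iSup₂_le ?_
        rintro _ ⟨x, rfl⟩
        exact hWU x
      · intro x hx
        exact Opens.mem_iSup.2 ⟨W ⟨x, hx⟩, Opens.mem_iSup.2 ⟨⟨_, rfl⟩, hxW ⟨x, hx⟩⟩⟩)
    have hT' : ∀ j, ∃ x, T j ≤ W x := fun j => by
      obtain ⟨_, ⟨x, rfl⟩, hx⟩ := hT j
      exact ⟨x, hx⟩
    choose x hx using hT'
    refine exists_lift_of_finite F c hc σ T (fun j => (hx j).trans (hWU _)) hTU.ge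
      (fun j => i (x j)) (fun j => rs (F.obj (i (x j))) (hx j) (s (x j))) (fun j => ?_)
      fun k l j a b hab => eq_of_isCompact F c hc (hTc k l) a b hab
    rw [← rs_inc, hs, rs_rs]

end Psi

end K437.ShSets
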