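import Groth.Prelude.Def_W4stktopologysheavesBas
import Mathlib.Topology.Bases
import Mathlib.Topology.Sets.Opens

/-!
# Sheaves of sets on a basis of a topological space
-/

set_option autoImplicit false
universe u
open TopologicalSpace

namespace K437.ShSets

variable {X : Type u} [TopologicalSpace X] {B : Set (Opens X)}

section

variable (hB : Opens.IsBasis B)

include hB in
/-- Members of the basis below `W` contained in some member of a family covering `W`. -/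
lemma exists_mem_basis {W : Opens X} {ι : Type u} (T : ι → Opens X) (hT : W ≤ ⨆ i, T i) {x : X}
    (hx : x ∈ W) : ∃ (S : B) (i : ι), x ∈ (S : Opens X) ∧ (S : Opens X) ≤ W ∧
      (S : Opens X) ≤ T i := by
  obtain ⟨i, hi⟩ := Opens.mem_iSup.1 (hT hx)
  obtain ⟨S, hS, hxS, hSW⟩ := Opens.isBasis_iff_nbhd.1 hB (show x ∈ W ⊓ T i from ⟨hx, hi⟩)
  exact ⟨⟨S, hS⟩, i, hxS, hSW.trans inf_le_left, hSW.trans inf_le_right⟩

include hB in
/-- The members of the basis below `W` and below some `T i` cover `W`. -/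
lemma cover_basis {W : Opens X} {ι : Type u} (T : ι → Opens X) (hT : W ≤ ⨆ i, T i) :
    W ≤ ⨆ p : {p : B × ι // (p.1 : Opens X) ≤ W ∧ (p.1 : Opens X) ≤ T p.2},
      ((p.1.1 : B) : Opens X) := by
  intro x hx
  obtain ⟨S, i, hxS, h1, h2⟩ := exists_mem_basis hB T hT hx
  exact Opens.mem_iSup.2 ⟨⟨(S, i), h1, h2⟩, hxS⟩

/-- Separatedness of a presheaf on a basis. -/
def Sep (F : ShB.Pre B) : Prop :=
  ∀ (U : B) (ι : Type u) (V : ι → B) (hV : ∀ i, (V i : Opens X) ≤ (U : Opens X)),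
    (U : Opens X) ≤ ⨆ i, (V i : Opens X) →
    ∀ t t' : F.obj U, (∀ i, F.res (hV i) t = F.res (hV i) t') → t = t'

lemma sep_of (F : ShB.Pre B) (C : ∀ U : B, Set (ShB.Cover B)) (hCU : ∀ U, ∀ c ∈ C U, c.U = U)
    (hC : ∀ (U : B) (ι : Type u) (V : ι → B), (∀ i, (V i : Opens X) ≤ (U : Opens X)) →
      (U : Opens X) ≤ ⨆ i, (V i : Opens X) →
      ∃ c ∈ C U, ∀ i' : c.ι, ∃ i, (c.V i' : Opens X) ≤ (V i : Opens X))
    (hF : ∀ U, ∀ c ∈ C U, ShB.GluesUniquely F c) : Sep F := by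
  intro U ι V hV hcov t t' h
  obtain ⟨c, hc, hcV⟩ := hC U ι V hV hcov
  have hglue := hF U c hc
  obtain rfl := hCU U c hc
  obtain ⟨s, -, hs⟩ := hglue (fun i' => F.res (c.V_le i') t) fun i j k => by
    rw [F.res_comp, F.res_comp]
  have h1 := hs t fun i' => rfl
  have h2 := hs t' fun i' => by
    obtain ⟨i, hi⟩ := hcV i'
    rw [← F.res_comp (hV i) hi, ← F.res_comp (hV i) hi, h i]
  rw [h1, h2]

include hB in
/-- Compatibility on all smaller members of the basis. -/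
lemma compat_of_sep {F : ShB.Pre B} (hs : Sep F) (c : ShB.Cover B) (s : ∀ i, F.obj (c.V i))
    (h : ∀ i j k, F.res (c.W_le_left i j k) (s i) = F.res (c.W_le_right i j k) (s j))
    (i j : c.ι) (W : B) (h1 : (W : Opens X) ≤ (c.V i : Opens X))
    (h2 : (W : Opens X) ≤ (c.V j : Opens X)) : F.res h1 (s i) = F.res h2 (s j) := by
  refine hs W _ (fun p : {p : B × c.κ i j // (p.1 : Opens X) ≤ W ∧
    (p.1 : Opens X) ≤ c.W i j p.2} => p.1.1) (fun p => p.2.1)
    (cover_basis hB (fun k => (c.W i j k : Opens X))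
      ((le_inf h1 h2).trans (c.W_cover i j))) _ _ fun p => ?_
  rw [F.res_comp, F.res_comp, ← F.res_comp (c.W_le_left i j p.1.2) p.2.2,
    ← F.res_comp (c.W_le_right i j p.1.2) p.2.2, h]

include hB in
theorem isSheaf_of_cofinal (F : ShB.Pre B) (C : ∀ U : B, Set (ShB.Cover B))
    (hCU : ∀ U, ∀ c ∈ C U, c.U = U)
    (hC : ∀ (U : B) (ι : Type u) (V : ι → B), (∀ i, (V i : Opens X) ≤ (U : Opens X)) →
      (U : Opens X) ≤ ⨆ i, (V i : Opens X) →
      ∃ c ∈ C U, ∀ i' : c.ι, ∃ i, (c.V i' : Opens X) ≤ (V i : Opens X))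
    (hF : ∀ U, ∀ c ∈ C U, ShB.GluesUniquely F c) : ShB.IsSheaf F := by
  have hsep := sep_of F C hCU hC hF
  intro c₀ s hs
  have hcompat := compat_of_sep hB hsep c₀ s hs
  obtain ⟨c, hc, hcV⟩ := hC c₀.U c₀.ι c₀.V c₀.V_le c₀.V_cover
  have hglue := hF c₀.U c hc
  have hU : c.U = c₀.U := hCU c₀.U c hc
  choose r hr using hcV
  obtain ⟨t, ht, -⟩ := hglue (fun i' => F.res (hr i') (s (r i'))) fun i j k => by
    rw [F.res_comp, F.res_comp]
    exact hcompat _ _ _ _ _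
  have hUle : (c₀.U : Opens X) ≤ (c.U : Opens X) := by rw [hU]
  have hcle : ∀ i', (c.V i' : Opens X) ≤ (c₀.U : Opens X) := fun i' => by
    rw [← hU]
    exact c.V_le i'
  refine ⟨F.res hUle t, fun i => ?_, fun t' ht' => ?_⟩
  · refine hsep (c₀.V i) _ (fun p : {p : B × c.ι // (p.1 : Opens X) ≤ c₀.V i ∧
      (p.1 : Opens X) ≤ c.V p.2} => p.1.1) (fun p => p.2.1)
      (cover_basis hB (fun k => (c.V k : Opens X)) ((c₀.V_le i).trans (hUle.trans c.V_cover)))
      _ _ fun p => ?_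
    have h1 : F.res p.2.1 (F.res (c₀.V_le i) (F.res hUle t)) =
        F.res p.2.2 (F.res (c.V_le p.1.2) t) := by
      simp only [F.res_comp]
    rw [h1, ht p.1.2, F.res_comp]
    exact hcompat _ _ _ _ _
  · refine hsep c₀.U c₀.ι c₀.V c₀.V_le c₀.V_cover _ _ fun i => ?_
    rw [ht' i]
    refine (hsep (c₀.V i) _ (fun p : {p : B × c.ι // (p.1 : Opens X) ≤ c₀.V i ∧
      (p.1 : Opens X) ≤ c.V p.2} => p.1.1) (fun p => p.2.1)
      (cover_basis hB (fun k => (c.V k : Opens X)) ((c₀.V_le i).trans (hUle.trans c.V_cover)))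
      _ _ fun p => ?_).symm
    have h1 : F.res p.2.1 (F.res (c₀.V_le i) (F.res hUle t)) =
        F.res p.2.2 (F.res (c.V_le p.1.2) t) := by
      simp only [F.res_comp]
    rw [h1, ht p.1.2, F.res_comp]
    exact hcompat _ _ _ _ _

include hB in
theorem isSheaf_iff_of_inter
    (hBi : ∀ U ∈ B, ∀ U' ∈ B, ∀ U'' ∈ B, U' ≤ U → U'' ≤ U → U' ⊓ U'' ∈ B)
    (F : ShB.Pre B)
    (C : ∀ U : B, Set (ShB.Cover B)) (hCU : ∀ U, ∀ c ∈ C U, c.U = U)
    (hC : ∀ (U : B) (ι : Type u) (V : ι → B), (∀ i, (V i : Opens X) ≤ (U : Opens X)) →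
      (U : Opens X) ≤ ⨆ i, (V i : Opens X) →
      ∃ c ∈ C U, ∀ i' : c.ι, ∃ i, (c.V i' : Opens X) ≤ (V i : Opens X)) :
    ShB.IsSheaf F ↔ ∀ (U : B), ∀ c ∈ C U, ∀ s : ∀ i, F.obj (c.V i),
      (∀ i j, F.res (U := c.V i) (V := ⟨(c.V i : TopologicalSpace.Opens X) ⊓ c.V j,
          hBi c.U c.U.2 _ (c.V i).2 _ (c.V j).2 (c.V_le i) (c.V_le j)⟩) inf_le_left (s i) =
        F.res (U := c.V j) (V := ⟨(c.V i : TopologicalSpace.Opens X) ⊓ c.V j,
          hBi c.U c.U.2 _ (c.V i).2 _ (c.V j).2 (c.V_le i) (c.V_le j)⟩) inf_le_right (s j)) →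
      ∃! t : F.obj c.U, ∀ i, F.res (c.V_le i) t = s i := by
  constructor
  · intro hF U c _ s hs
    refine hF c s fun i j k => ?_
    have h1 : (c.W i j k : Opens X) ≤ (c.V i : Opens X) ⊓ c.V j :=
      le_inf (c.W_le_left i j k) (c.W_le_right i j k)
    have h2 := congrArg (F.res (V := c.W i j k) h1) (hs i j)
    rwa [F.res_comp, F.res_comp] at h2
  · intro hF
    let D : ShB.Cover B → ShB.Cover B := fun c =>
      { U := c.U
        ι := c.ι
        V := c.V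
        V_le := c.V_le
        V_cover := c.V_cover
        κ := fun _ _ => PUnit
        W := fun i j _ => ⟨(c.V i : TopologicalSpace.Opens X) ⊓ c.V j,
          hBi c.U c.U.2 _ (c.V i).2 _ (c.V j).2 (c.V_le i) (c.V_le j)⟩
        W_le_left := fun i j _ => inf_le_left
        W_le_right := fun i j _ => inf_le_right
        W_cover := fun i j => le_iSup (fun _ : PUnit => (c.V i : TopologicalSpace.Opens X) ⊓ c.V j)
          PUnit.unit }
    refine isSheaf_of_cofinal hB F (fun U => D '' (C U)) ?_ ?_ ?_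
    · rintro U _ ⟨c, hc, rfl⟩
      exact hCU U c hc
    · intro U ι V hV hcov
      obtain ⟨c, hc, h⟩ := hC U ι V hV hcov
      exact ⟨D c, ⟨c, hc, rfl⟩, h⟩
    · rintro U _ ⟨c, hc, rfl⟩ s hs
      exact hF U c hc s fun i j => hs i j PUnit.unit

end

end K437.ShSets
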