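import Groth.Agent.ShSp.K437.Basis
import Mathlib.Topology.Sheaves.SheafCondition.UniqueGluing
import Mathlib.Topology.Sheaves.SheafCondition.Sites
import Mathlib.Topology.Sheaves.Functors

/-!
# Sheaves of sets on a basis: germs, extension to all open sets, maps
-/

set_option autoImplicit false
universe u
open TopologicalSpace CategoryTheory Opposite

namespace K437.ShSets

section

variable {X : Type u} [TopologicalSpace X] {B : Set (Opens X)} (hB : Opens.IsBasis B)

/-- A covering datum all of whose pairwise intersections are covered by all the smaller members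
of the basis. -/
def fullCover (hB : Opens.IsBasis B) (U : B) (ι : Type u) (V : ι → B)
    (hV : ∀ i, (V i : Opens X) ≤ (U : Opens X))
    (hcov : (U : Opens X) ≤ ⨆ i, (V i : Opens X)) : ShB.Cover B where
  U := U
  ι := ι
  V := V
  V_le := hV
  V_cover := hcov
  κ i j := {W : B // (W : Opens X) ≤ V i ∧ (W : Opens X) ≤ V j}
  W _ _ k := k.1
  W_le_left _ _ k := k.2.1
  W_le_right _ _ k := k.2.2
  W_cover i j := by
    intro x hx
    obtain ⟨S, hS, hxS, hSW⟩ := Opens.isBasis_iff_nbhd.1 hB hx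
    exact Opens.mem_iSup.2 ⟨⟨⟨S, hS⟩, hSW.trans inf_le_left, hSW.trans inf_le_right⟩, hxS⟩

include hB in
lemma sep_of_isSheaf {F : ShB.Pre B} (hF : ShB.IsSheaf F) : Sep F := by
  intro U ι V hV hcov t t' h
  obtain ⟨s, -, hs⟩ := hF (fullCover hB U ι V hV hcov) (fun i => F.res (hV i) t) fun i j k => by
    rw [F.res_comp, F.res_comp]
  rw [hs t fun i => rfl, hs t' fun i => (h i).symm]

include hB in
/-- Gluing along all smaller members. -/
lemma exists_glue {F : ShB.Pre B} (hF : ShB.IsSheaf F) (U : B) (ι : Type u) (V : ι → B)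
    (hV : ∀ i, (V i : Opens X) ≤ (U : Opens X)) (hcov : (U : Opens X) ≤ ⨆ i, (V i : Opens X))
    (s : ∀ i, F.obj (V i))
    (hs : ∀ i j (W : B) (h1 : (W : Opens X) ≤ V i) (h2 : (W : Opens X) ≤ V j),
      F.res h1 (s i) = F.res h2 (s j)) : ∃ t : F.obj U, ∀ i, F.res (hV i) t = s i := by
  obtain ⟨t, ht, -⟩ := hF (fullCover hB U ι V hV hcov) s fun i j k => hs i j k.1 k.2.1 k.2.2
  exact ⟨t, ht⟩

/-! ### Germs -/

include hB in
/-- Equality of germs. -/
lemma germ_eq_iff (F : ShB.Pre B) {U V : B} (x : X) (hU : x ∈ (U : Opens X))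
    (hV : x ∈ (V : Opens X)) (s : F.obj U) (t : F.obj V) :
    ShB.germ F x hU s = ShB.germ F x hV t ↔
      ∃ (W : B) (_ : x ∈ (W : Opens X)) (h1 : (W : Opens X) ≤ (U : Opens X))
        (h2 : (W : Opens X) ≤ (V : Opens X)), F.res h1 s = F.res h2 t := by
  constructor
  · intro h
    have heqv : Equivalence (ShB.StalkRel F x) := by
      refine ⟨fun a => ⟨a.1.1, a.1.2, le_rfl, le_rfl, rfl⟩, ?_, ?_⟩
      · rintro a b ⟨W, hW, ha, hb, h⟩
        exact ⟨W, hW, hb, ha, h.symm⟩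
      · rintro a b c ⟨W, hW, ha, hb, h⟩ ⟨W', hW', hb', hc, h'⟩
        obtain ⟨S, hS, hxS, hSW⟩ := Opens.isBasis_iff_nbhd.1 hB
          (show x ∈ (W : Opens X) ⊓ W' from ⟨hW, hW'⟩)
        have h1 : S ≤ (W : Opens X) := hSW.trans inf_le_left
        have h2 : S ≤ (W' : Opens X) := hSW.trans inf_le_right
        refine ⟨⟨S, hS⟩, hxS, h1.trans ha, h2.trans hc, ?_⟩
        rw [← F.res_comp (V := W) (W := ⟨S, hS⟩) ha h1, h, F.res_comp,
          ← F.res_comp (V := W') (W := ⟨S, hS⟩) hc h2, ← h', F.res_comp]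
    exact (Quot.eqvGen_exact h |> (heqv.eqvGen_iff).1)
  · rintro ⟨W, hW, h1, h2, h⟩
    exact Quot.sound ⟨W, hW, h1, h2, h⟩

include hB in
theorem germ_family (F : ShB.Pre B) (hF : ShB.IsSheaf F) (U : B) :
    Function.Injective (fun (s : F.obj U) (x : (U : Opens X)) => ShB.germ F x.1 x.2 s) ∧
    ∀ f : ∀ x : (U : Opens X), ShB.Stalk F x.1,
      (∃ s : F.obj U, ∀ x, ShB.germ F x.1 x.2 s = f x) ↔
      ∀ x : (U : Opens X), ∃ (V : B) (_ : x.1 ∈ (V : Opens X))
        (hVU : (V : Opens X) ≤ (U : Opens X)) (σ : F.obj V),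
        ∀ (y : X) (hy : y ∈ (V : Opens X)), ShB.germ F y hy σ = f ⟨y, hVU hy⟩ := by
  have hsep := sep_of_isSheaf hB hF
  constructor
  · intro s t hst
    have h1 : ∀ x : (U : Opens X), ∃ (W : B) (_ : x.1 ∈ (W : Opens X))
        (h1 : (W : Opens X) ≤ (U : Opens X)) (h2 : (W : Opens X) ≤ (U : Opens X)),
        F.res h1 s = F.res h2 t := fun x =>
      (germ_eq_iff hB F x.1 x.2 x.2 s t).1 (congrFun hst x)
    choose W hxW hW1 hW2 hW using h1
    refine hsep U (U : Opens X) W hW1 ?_ s t hW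
    intro x hx
    exact Opens.mem_iSup.2 ⟨⟨x, hx⟩, hxW ⟨x, hx⟩⟩
  · intro f
    constructor
    · rintro ⟨s, hs⟩ x
      exact ⟨U, x.2, le_rfl, s, fun y hy => hs ⟨y, hy⟩⟩
    · intro h
      choose V hxV hVU σ hσ using h
      obtain ⟨s, hs⟩ := exists_glue hB hF U (U : Opens X) V hVU
        (fun x hx => Opens.mem_iSup.2 ⟨⟨x, hx⟩, hxV ⟨x, hx⟩⟩) σ (by
          intro i j W h1 h2
          have h3 : ∀ y : (W : Opens X), ∃ (W' : B) (_ : y.1 ∈ (W' : Opens X))
              (h1' : (W' : Opens X) ≤ (V i : Opens X)) (h2' : (W' : Opens X) ≤ (V j : Opens X)),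
              F.res h1' (σ i) = F.res h2' (σ j) := fun y =>
            (germ_eq_iff hB F y.1 (h1 y.2) (h2 y.2) (σ i) (σ j)).1
              ((hσ i y.1 (h1 y.2)).trans (hσ j y.1 (h2 y.2)).symm)
          choose W' hyW' h1' h2' hW' using h3
          have h4 : ∀ y : (W : Opens X), ∃ S : B, y.1 ∈ (S : Opens X) ∧
              (S : Opens X) ≤ W ∧ (S : Opens X) ≤ W' y := fun y => by
            obtain ⟨S, hS, hyS, hSW⟩ := Opens.isBasis_iff_nbhd.1 hB
              (show y.1 ∈ (W : Opens X) ⊓ W' y from ⟨y.2, hyW' y⟩)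
            exact ⟨⟨S, hS⟩, hyS, hSW.trans inf_le_left, hSW.trans inf_le_right⟩
          choose S hyS hSW hSW' using h4
          refine hsep W (W : Opens X) S hSW
            (fun y hy => Opens.mem_iSup.2 ⟨⟨y, hy⟩, hyS ⟨y, hy⟩⟩) _ _ fun y => ?_
          rw [F.res_comp, F.res_comp, ← F.res_comp (h1' y) (hSW' y),
            ← F.res_comp (h2' y) (hSW' y), hW'])
      refine ⟨s, fun x => ?_⟩
      rw [← hσ x x.1 (hxV x), germ_eq_iff hB]
      refine ⟨V x, hxV x, hVU x, le_rfl, ?_⟩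
      rw [hs x, F.res_id]

end

end K437.ShSets
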