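import Mathlib.Topology.Sheaves.Skyscraper
import Mathlib.Topology.Sheaves.Functors

/-!
# Inverse image of sheaves of sets on topological spaces: stalks
-/

set_option autoImplicit false
universe u
open CategoryTheory TopologicalSpace Opposite CategoryTheory.Limits

namespace K437.ShSets

/-- Direct image of sheaves of sets. -/
noncomputable abbrev push {X Y : TopCat.{u}} (f : X ⟶ Y) : X.Sheaf (Type u) ⥤ Y.Sheaf (Type u) :=
  TopCat.Sheaf.pushforward (Type u) f

/-- Inverse image of sheaves of sets. -/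
noncomputable abbrev pull {X Y : TopCat.{u}} (f : X ⟶ Y) : Y.Sheaf (Type u) ⥤ X.Sheaf (Type u) :=
  TopCat.Sheaf.pullback (Type u) f

/-- The adjunction between inverse image and direct image. -/
noncomputable abbrev adj {X Y : TopCat.{u}} (f : X ⟶ Y) : pull f ⊣ push f :=
  TopCat.Sheaf.pullbackPushforwardAdjunction (Type u) f

/-- The stalk functor on sheaves of sets. -/
noncomputable abbrev stalkF {X : TopCat.{u}} (x : X) : X.Sheaf (Type u) ⥤ (Type u) :=
  sheafToPresheaf (Opens.grothendieckTopology X) (Type u) ⋙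
    TopCat.Presheaf.stalkFunctor (Type u) x

/-- The germ of a section. -/
noncomputable abbrev germ {X : TopCat.{u}} (F : X.Sheaf (Type u)) (U : Opens X) (x : X) (hx : x ∈ U) :
    F.obj.obj (op U) ⟶ (stalkF x).obj F :=
  TopCat.Presheaf.germ (C := (Type u)) (X := X) F.obj U x hx

theorem stalk_hom_ext {X : TopCat.{u}} {F : X.Sheaf (Type u)} {x : X} {A : (Type u)}
    {a b : (stalkF x).obj F ⟶ A}
    (h : ∀ (U : Opens X) (hx : x ∈ U), germ F U x hx ≫ a = germ F U x hx ≫ b) : a = b :=
  TopCat.Presheaf.stalk_hom_ext _ h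

@[reassoc]
theorem germ_map {X : TopCat.{u}} {F G : X.Sheaf (Type u)} (φ : F ⟶ G) (U : Opens X) (x : X)
    (hx : x ∈ U) : germ F U x hx ≫ (stalkF x).map φ = φ.hom.app (op U) ≫ germ G U x hx :=
  TopCat.Presheaf.stalkFunctor_map_germ (C := (Type u)) (X := X) U x hx φ.hom

/-- The canonical map `(f_* F)_{f x} ⟶ F_x`. -/
noncomputable def stalkPush {X Y : TopCat.{u}} (f : X ⟶ Y) (x : X) :
    push f ⋙ stalkF (f x) ⟶ stalkF x where
  app F := TopCat.Presheaf.stalkPushforward (Type u) f F.obj x
  naturality F G φ := by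
    refine stalk_hom_ext (fun U hx => ?_)
    have h1 := germ_map_assoc ((push f).map φ) U (f x) hx
      (TopCat.Presheaf.stalkPushforward (Type u) f G.obj x)
    have h2 := TopCat.Presheaf.stalkPushforward_germ (Type u) f G.obj U x hx
    have h3 := TopCat.Presheaf.stalkPushforward_germ_assoc (Type u) f F.obj U x hx
      ((stalkF x).map φ)
    have h4 := germ_map φ ((Opens.map f).obj U) x hx
    refine h1.trans (Eq.trans ?_ h3.symm)
    exact (congrArg (fun t => ((push f).map φ).hom.app (op U) ≫ t) h2).trans h4.symm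

@[reassoc]
theorem germ_stalkPush {X Y : TopCat.{u}} (f : X ⟶ Y) (x : X) (F : X.Sheaf (Type u)) (U : Opens Y)
    (hx : f x ∈ U) : germ ((push f).obj F) U (f x) hx ≫ (stalkPush f x).app F =
      germ F ((Opens.map f).obj U) x hx :=
  TopCat.Presheaf.stalkPushforward_germ _ f F.obj U x hx

/-- The comparison map `F_{f x} ⟶ (f⁻¹ F)_x`, natural in `F`. -/
noncomputable def stalkComp {X Y : TopCat.{u}} (f : X ⟶ Y) (x : X) :
    stalkF (f x) ⟶ pull f ⋙ stalkF x :=
  Functor.whiskerRight (adj f).unit (stalkF (f x)) ≫ Functor.whiskerLeft (pull f) (stalkPush f x)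

@[reassoc]
theorem germ_stalkComp {X Y : TopCat.{u}} (f : X ⟶ Y) (x : X) (F : Y.Sheaf (Type u)) (U : Opens Y)
    (hx : f x ∈ U) : germ F U (f x) hx ≫ (stalkComp f x).app F =
      ((adj f).unit.app F).hom.app (op U) ≫ germ ((pull f).obj F) ((Opens.map f).obj U) x hx := by
  have h1 := germ_map_assoc ((adj f).unit.app F) U (f x) hx
      ((stalkPush f x).app ((pull f).obj F))
  have h2 := germ_stalkPush f x ((pull f).obj F) U hx
  exact h1.trans (congrArg (fun t => ((adj f).unit.app F).hom.app (op U) ≫ t) h2)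

open scoped Classical in
/-- The skyscraper sheaf. -/
noncomputable abbrev sky {X : TopCat.{u}} (x : X) (A : (Type u)) : X.Sheaf (Type u) :=
  skyscraperSheaf x A

open scoped Classical in
open StalkSkyscraperPresheafAdjunctionAuxs in
/-- Maps to skyscraper sheaves are maps out of the stalk. -/
noncomputable def skyEquiv {X : TopCat.{u}} (x : X) (F : X.Sheaf (Type u)) (A : (Type u)) :
    ((stalkF x).obj F ⟶ A) ≃ (F ⟶ sky x A) where
  toFun g := ⟨toSkyscraperPresheaf x g⟩
  invFun h := fromStalk x h.hom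
  left_inv g := fromStalk_to_skyscraper x g
  right_inv h := Sheaf.hom_ext (to_skyscraper_fromStalk x h.hom)

open StalkSkyscraperPresheafAdjunctionAuxs in
theorem skyEquiv_apply_app {X : TopCat.{u}} (x : X) (F : X.Sheaf (Type u)) (A : (Type u))
    (g : (stalkF x).obj F ⟶ A) (U : Opens X) (hx : x ∈ U) :
    (skyEquiv x F A g).hom.app (op U) = germ F U x hx ≫ g ≫ eqToHom (if_pos hx).symm := by
  classical
  exact dif_pos hx

/-- The direct image of a skyscraper sheaf is a skyscraper sheaf. -/
theorem push_sky {X Y : TopCat.{u}} (f : X ⟶ Y) (x : X) (A : (Type u)) :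
    (push f).obj (sky x A) = sky (f x) A := rfl

theorem sky_hom_ext {X : TopCat.{u}} {x : X} {F : X.Sheaf (Type u)} {A : (Type u)}
    {a b : F ⟶ sky x A} (h : ∀ (U : Opens X) (_ : x ∈ U), a.hom.app (op U) = b.hom.app (op U)) :
    a = b := by
  classical
  refine Sheaf.hom_ext (NatTrans.ext (funext fun U => ?_))
  by_cases hx : x ∈ U.unop
  · exact h U.unop hx
  · exact (isTerminalSkyscraperSheafObjObjOfNotMem hx).hom_ext _ _

theorem stalkComp_bijective {X Y : TopCat.{u}} (f : X ⟶ Y) (x : X) (F : Y.Sheaf (Type u))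
    (A : (Type u)) :
    Function.Bijective (fun g : (stalkF x).obj ((pull f).obj F) ⟶ A =>
      (stalkComp f x).app F ≫ g) := by
  let e : ((stalkF x).obj ((pull f).obj F) ⟶ A) ≃ (F ⟶ sky (f x) A) :=
    (skyEquiv x ((pull f).obj F) A).trans ((adj f).homEquiv F (sky x A))
  have h : ∀ g, skyEquiv (f x) F A ((stalkComp f x).app F ≫ g) = e g := by
    intro g
    refine sky_hom_ext (fun U hx => ?_)
    have hE : (e g).hom.app (op U) = ((adj f).unit.app F).hom.app (op U) ≫
        (skyEquiv x ((pull f).obj F) A g).hom.app (op ((Opens.map f).obj U)) := by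
      have := (adj f).homEquiv_unit (X := F) (f := skyEquiv x ((pull f).obj F) A g)
      exact congrArg (fun t => t.hom.app (op U)) this
    have h0 := skyEquiv_apply_app (f x) F A ((stalkComp f x).app F ≫ g) U hx
    have h2 := skyEquiv_apply_app x ((pull f).obj F) A g ((Opens.map f).obj U) hx
    have h1 := germ_stalkComp_assoc f x F U hx g
    refine h0.trans (Eq.trans ?_ hE.symm)
    refine Eq.trans ?_ (congrArg (fun t => ((adj f).unit.app F).hom.app (op U) ≫ t) h2).symm
    have h3 := fun (Z : (Type u)) (k : A ⟶ Z) => congrArg (fun t => t ≫ k) h1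
    simp only [Category.assoc] at h3 ⊢
    exact h3 _ _
  have h2 : (fun g : (stalkF x).obj ((pull f).obj F) ⟶ A =>
      (stalkComp f x).app F ≫ g) = (skyEquiv (f x) F A).symm ∘ e := by
    funext g
    exact ((Equiv.eq_symm_apply _).2 (h g))
  rw [h2]
  exact (skyEquiv (f x) F A).symm.bijective.comp e.bijective

instance isIso_stalkComp_app {X Y : TopCat.{u}} (f : X ⟶ Y) (x : X) (F : Y.Sheaf (Type u)) :
    IsIso ((stalkComp f x).app F) :=
  isIso_of_coyoneda_map_bijective _ (stalkComp_bijective f x F)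

instance isIso_stalkComp {X Y : TopCat.{u}} (f : X ⟶ Y) (x : X) : IsIso (stalkComp f x) :=
  NatIso.isIso_of_isIso_app _

end K437.ShSets
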